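import Cfsg.Agent.XG.U
import Cfsg.Agent.XT.Sz3
import Cfsg.Agent.WX.Three

/-! Simple groups with a large extraspecial subgroup of order 128. -/

set_option autoImplicit false
set_option linter.unusedSectionVars false

namespace CF.XG

open Cfsg Subgroup CF.Loc CF.Even CF.LX CF.Geom QuadraticMap

variable {G V : Type*} [Group G] [Finite G] [AddCommGroup V] [Module (ZMod 2) V] {q : QuadraticForm (ZMod 2) V}
  {Q : G → Subgroup G} {D : Set G} {n : ℕ} {a d g z : G} {p : G → V} {ρ : G → V →ₗ[ZMod 2] V} {P : Subgroup G}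

theorem Sys.lm (S : Sys Q D n) (L : LM (Q z) z p q ρ) (hd : d ∈ D) (e : g * d * g⁻¹ = z) :
    LM (Q d) d (fun x => p (g * x * g⁻¹)) q fun x => ρ (g * x * g⁻¹) where
  lq := S.lq hd
  mul hx hy := by rw [conj_mul_conj, L.mul (S.fam.mv e hx) (S.fam.mv e hy)]
  surj v := by
    obtain ⟨x, hx, rfl⟩ := L.surj v
    exact ⟨_, S.fam.mv (conj_inv_of e) hx, congrArg p (by group)⟩
  ker hx := by rw [L.ker (S.fam.mv e hx), ← e]; simp
  sq hx := by rw [← L.sq (S.fam.mv e hx), ← conj_mul_conj, conj_eq_one_iff]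
  cm hx hy := by rw [← L.cm (S.fam.mv e hx) (S.fam.mv e hy), comm_conj_iff]
  act hh hx := (L.act (e ▸ comm_conj hh g) (S.fam.mv e hx)).trans (congrArg p (by group))

theorem Sys.card3 (S : Sys Q D 3) (j : Adj Q D z a) (n2 : ∀ H : Subgroup G, H.index ≠ 2)
    (irr : ∀ A : Subgroup G, z ∈ A → A ≤ Q z → 𝐂₁(z) ≤ 𝐍(A) → A = zpowers z ∨ A = Q z) :
    Nat.card 𝐂₁(z) = 3317760 := by
  obtain ⟨p, q, ρ, L⟩ := exists_lm (S.lq j.zD) (r := 6) (S.card j.zD)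
  have h6 : Six q := ⟨by simp, fun _ => L.nd⟩
  rcases (S.os L h6 irr).main ⟨a, j, rfl⟩ with E | ⟨_, _, _, _, T⟩
  swap
  · exact (S.no_ts L j.zD n2 T).elim
  have full : ∀ u w, u ≠ 0 → q u = 0 → polar q w u = 0 → ∃ g, g * z = z * g ∧ ∀ v, ρ g v = sg q u w v :=
    fun u w h1 h2 h3 => by
      obtain ⟨-, -, -, b, -, bz, r⟩ := (E u h1 h2).2.2 w h3
      exact ⟨b, bz, r.2⟩
  refine L.card_minus h6 n2 (fun pl => ?_) (S.card j.zD) full
  obtain ⟨x, hx⟩ := h6.one (S.p_ne L j)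
  obtain ⟨c, qc, ca, -, n⟩ := h6.plus pl (S.p_ne L j) (v := x) (fun l => z01 (by rw [← hx, l, polar_zero_left]))
    fun l => z01 (by rw [← hx, l, pol_self])
  obtain ⟨b, hb, bz, r⟩ := S.normC L j ((E _ (S.p_ne L j) (S.p_sing L j)).2.2 c ca)
  refine S.no_plus h6 (fun d hd => ?_) (fun {d a y} k h1 h2 => ?_) pl L j (fun d hd x h1 h2 h3 => ?_) full
    (by simpa using n 0 0) (by simpa using n 1 0) qc hb bz r
  · obtain ⟨g, e⟩ := S.tr hd j.zD
    exact ⟨_, _, S.lm L hd e⟩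
  · obtain ⟨g, e⟩ := S.tr k.zD j.zD
    have k' := e ▸ S.adj_cj k g
    have m := S.fam.mv e h1
    rcases (E _ (S.p_ne L k') (S.p_sing L k')).2.1 _ ⟨_, k', rfl, _, m, S.fam g _ _ h2, rfl⟩ with l | l
    · rw [L.ker m, ← e] at l
      exact l.imp (by simp) fun l => .inl (by simpa using l)
    · rw [L.eq_iff m k'.aQ, ← e, ← conj_mul_conj] at l
      exact .inr (.inr (by simpa using l))
  · obtain ⟨g, e⟩ := S.tr hd j.zD
    have m := S.fam.mv e h1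
    suffices g * x * g⁻¹ ∈ D by simpa [mul_assoc] using S.cj g⁻¹ this
    by_cases l : p (g * x * g⁻¹) = 0
    · exact ((L.ker m).1 l).elim (fun l => (h3 (by simpa using l)).elim) fun l => l ▸ j.zD
    obtain ⟨b, k, l⟩ := (E _ l ((L.sq m).1 (by rw [← conj_mul_conj, h2]; simp))).1
    rcases (L.eq_iff m k.aQ).1 l.symm with l | l <;> rw [l]
    exacts [k.aD, S.mul_D k]

/-- width three -/
theorem three [IsSimpleGroup G] (l : LQ P z) (c : Nat.card P = 2 ^ 7) (O2 : 𝐎[2](𝐂₁(z)) ≤ P) :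
    Nonempty (G ≃* Matrix.SpecialLinearGroup (Fin 5) (ZMod 2)) ∨ Nonempty (G ≃* PSU 5 Geom.Fi.K4 2) ∨
      Nonempty (G ≃* M24) ∨ Nonempty (G ≃* Spor.He) ∨ Nonempty (G ≃* Spor.Suz) := by
  by_cases w : ∀ g, g * z * g⁻¹ ∈ P → g * z * g⁻¹ = z
  · exact .inr (.inl (CF.WX.psu5 l c w O2 rfl))
  by_cases irr : ∀ A : Subgroup G, z ∈ A → A ≤ P → 𝐂₁(z) ≤ 𝐍(A) → A = zpowers z ∨ A = P
  · push Not at w
    obtain ⟨g, w1, w2⟩ := w
    obtain ⟨S, rfl⟩ := exists_sys l (n := 3) c le_rfl O2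
    obtain ⟨φ, -⟩ := CF.XT.Sz.main l c (S.card3 ⟨IsConj.refl z, isConj_iff.2 ⟨g, rfl⟩, w1, w2⟩ (no_two l) irr) w1 w2
    exact .inr (.inr (.inr (.inr ⟨φ.symm⟩)))
  · push Not at irr
    obtain ⟨A, h1, h2, h3, n1, n2⟩ := irr
    exact (red l (n := 3) c le_rfl O2 h1 h2 h3 n1 n2).imp_right fun k => .inr (k.2.imp_right .inl)

end CF.XG
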