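import Cfsg.Agent.XG.Q
import Cfsg.Agent.XG.M
import Cfsg.Agent.Loc.Xfer
import Cfsg.Agent.Invol.Closure

/-! A parity form of the transfer lemma for a subgroup of index two in the centralizer of an involution. -/

set_option autoImplicit false
set_option linter.unusedSectionVars false

namespace CF.XG

open Cfsg Subgroup CF.Loc CF.Even CF.LX

variable {G : Type*} [Group G] [Finite G] {S K T : Subgroup G} {x z t : G}

attribute [local instance low] _root_.Classical.propDecidable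

theorem transfer_even (i2 : ∀ a ∈ S, ∀ b ∈ S, a ∉ K → b ∉ K → a * b ∈ K) (hx : x ∈ commutator G)
    (hT : IsPGroup 2 T) (hxT : x ∈ T) (hTx : ∀ y ∈ T, y * x = x * y)
    (h2 : ∀ g (n : ℕ), g⁻¹ * x * g ∉ S → g⁻¹ * x ^ n * g ∈ S → g⁻¹ * x ^ n * g ∈ K) [Fintype (G ⧸ S)] :
    ∑ q : G ⧸ S with ∀ t ∈ T, t • q = q, (if q.out⁻¹ * x * q.out ∈ K then 0 else 1 : ZMod 2) = 0 := by
  have : Fintype (Quotient (MulAction.orbitRel (zpowers x) (G ⧸ S))) := Fintype.ofFinite _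
  let φ : S →* Multiplicative (ZMod 2) := MonoidHom.mk' (fun s => .ofAdd (if s.1 ∈ K then 0 else 1)) fun a b => by
    rw [← ofAdd_add]
    by_cases ha : a.1 ∈ K <;> by_cases hb : b.1 ∈ K
    · simp [ha, hb, mul_mem]
    · simp [ha, hb, K.mul_mem_cancel_left ha]
    · simp [ha, hb, K.mul_mem_cancel_right hb]
    · simp [ha, hb, i2 _ a.2 _ b.2 ha hb, z11]
  have h1 : MonoidHom.transfer φ x = 1 := Abelianization.commutator_subset_ker _ hx
  let f : G ⧸ S → Multiplicative (ZMod 2) := fun q => if e : q.out⁻¹ * x * q.out ∈ S then φ ⟨_, e⟩ else 1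
  have key : ∀ g : G, x • (g : G ⧸ S) = g ↔ g⁻¹ * x * g ∈ S := fun g => by
    rw [MulAction.Quotient.smul_mk, eq_comm, QuotientGroup.eq, smul_eq_mul, mul_assoc]
  have key' : ∀ q : G ⧸ S, x • q = q ↔ q.out⁻¹ * x * q.out ∈ S := fun q => by
    rw [← key, QuotientGroup.out_eq']
  have f2 : ∀ (g : G) (hg : g⁻¹ * x * g ∈ S), f g = φ ⟨_, hg⟩ := fun g hg => by
    obtain ⟨s, hs⟩ := QuotientGroup.mk_out_eq_mul S g
    rw [show φ ⟨_, hg⟩ = φ (s⁻¹ * ⟨_, hg⟩ * s) by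
      rw [map_mul, map_mul, mul_right_comm, ← map_mul, inv_mul_cancel, map_one, one_mul]]
    simp only [f, dif_pos ((key' _).1 ((key g).2 hg))]
    congr 1
    ext
    simp only [hs, coe_mul, coe_inv]
    group
  have f3 : ∀ q, x • q ≠ q → f q = 1 := fun q hq => dif_neg (mt (key' q).2 hq)
  have sq : ∀ a : Multiplicative (ZMod 2), a ^ 2 = 1 := by decide
  rw [MonoidHom.transfer_eq_prod_quotient_orbitRel_zpowers_quot, Fintype.prod_of_injective _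
    Quotient.out_injective _ f (fun q hq => f3 q fun e => hq ⟨Quotient.mk _ q, by
      obtain ⟨⟨_, k, rfl⟩, e'⟩ := Quotient.mk_out (s := MulAction.orbitRel (zpowers x) (G ⧸ S)) q
      exact e'.symm.trans (MulAction.mem_stabilizer_iff.1
        (zpow_mem (MulAction.mem_stabilizer_iff.2 e) k))⟩) (fun ω => by
      by_cases e : x • ω.out = ω.out
      · simp only [f, dif_pos ((key' _).1 e)]
        congr 2
        rw [Function.minimalPeriod_eq_one_iff_isFixedPt.2 e, pow_one]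
      · rw [f3 _ e]
        exact congrArg Multiplicative.ofAdd (if_pos (h2 _ _ (mt (key' _).2 e)
          (QuotientGroup.out_conj_pow_minimalPeriod_mem S x ω.out)))),
    prod_eq_prod_fixed hT _ (fun _ _ _ _ => Finset.mem_univ _) f (fun t ht q _ => by
      obtain ⟨g, rfl⟩ := QuotientGroup.mk_surjective q
      have e : (t * g)⁻¹ * x * (t * g) = g⁻¹ * x * g := by
        rw [show (t * g)⁻¹ * x * (t * g) = g⁻¹ * (t⁻¹ * (x * t)) * g by group, ← hTx t ht, inv_mul_cancel_left]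
      rw [MulAction.Quotient.smul_mk, smul_eq_mul]
      by_cases hg : g⁻¹ * x * g ∈ S
      · rw [f2 _ (e ▸ hg), f2 _ hg]; simp only [e]
      · rw [f3 _ (mt (key g).1 hg), f3 _ (mt (key _).1 (e ▸ hg))]) fun q _ => sq _,
    Finset.prod_congr rfl (g := fun q => Multiplicative.ofAdd (if q.out⁻¹ * x * q.out ∈ K then 0 else 1 : ZMod 2))
      fun q hq => by exact dif_pos ((key' q).1 ((Finset.mem_filter.1 hq).2 x hxT)), ← ofAdd_sum] at h1
  exact h1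

/-- conjugates of `z` fixed by `T` at which `t` is outer -/
def Out (z t : G) (K T : Subgroup G) : Set G :=
  {d | d ≠ z ∧ (∀ y ∈ T, y * d = d * y) ∧ ∃ g, g * z * g⁻¹ = d ∧ g⁻¹ * t * g ∉ K}

theorem parity (i2 : ∀ a ∈ 𝐂₁(z), ∀ b ∈ 𝐂₁(z), a ∉ K → b ∉ K → a * b ∈ K) (hx : t ∈ commutator G) (tK : t ∉ K)
    (hT : IsPGroup 2 T) (tT : t ∈ T) (Tt : ∀ y ∈ T, y * t = t * y) (Tz : T ≤ 𝐂₁(z))
    (h2 : ∀ g (n : ℕ), g⁻¹ * t * g ∉ 𝐂₁(z) → g⁻¹ * t ^ n * g ∈ 𝐂₁(z) → g⁻¹ * t ^ n * g ∈ K) (σ : G → G)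
    (hσ : ∀ d ∈ Out z t K T, σ d ∈ Out z t K T ∧ σ d ≠ d ∧ σ (σ d) = d) : False := by
  have : Fintype (G ⧸ 𝐂₁(z)) := Fintype.ofFinite _
  have fin := Set.toFinite (Out z t K T)
  have h := transfer_even i2 hx hT tT Tt h2
  have nor : ∀ a ∈ 𝐂₁(z), ∀ k ∈ K, a⁻¹ * k * a ∈ 𝐂₁(z) → a⁻¹ * k * a ∈ K := fun a ha k hk m => by
    by_cases c : a ∈ K
    · exact mul_mem (mul_mem (inv_mem c) hk) c
    · exact i2 _ ((mul_mem_cancel_right ha).1 m) _ ha (by rwa [K.mul_mem_cancel_right hk, inv_mem_iff]) c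
  have fx : ∀ g y : G, y • (g : G ⧸ 𝐂₁(z)) = g ↔ y * (g * z * g⁻¹) = g * z * g⁻¹ * y := fun g y => by
    rw [MulAction.Quotient.smul_mk, eq_comm, QuotientGroup.eq, smul_eq_mul, mem_c1, ← mul_left_inj g⁻¹,
      ← mul_right_inj g]
    simp [mul_assoc]
  have eq : ∀ g k : G, g * z * g⁻¹ = k * z * k⁻¹ → g⁻¹ * k ∈ 𝐂₁(z) := fun g k e => by
    rw [mem_c1, ← mul_left_inj k⁻¹, ← mul_right_inj g]
    simpa [mul_assoc] using e.symm
  rw [Finset.sum_ite, Finset.sum_const_zero, zero_add, Finset.filter_filter,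
    Finset.sum_nbij (t := insert z fin.toFinset) (g := fun _ => (1 : ZMod 2))
      (fun q => q.out * z * q.out⁻¹) (fun q hq => ?_) (fun q _ r _ e => ?_) (fun d hd => ?_) fun _ _ => rfl,
    Finset.sum_insert (fun l => (fin.mem_toFinset.1 l).1 rfl), Finset.sum_involution (fun d _ => σ d) (fun _ _ => z11)
      (fun d hd _ => (hσ d (fin.mem_toFinset.1 hd)).2.1) (fun d hd => fin.mem_toFinset.2 (hσ d (fin.mem_toFinset.1 hd)).1)
      fun d hd => (hσ d (fin.mem_toFinset.1 hd)).2.2] at h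
  · exact z01 h.symm
  · obtain ⟨-, h1, h3⟩ := Finset.mem_filter.1 hq
    exact Finset.mem_insert.2 (or_iff_not_imp_left.2 fun n => fin.mem_toFinset.2
      ⟨n, fun y hy => (fx _ y).1 (by rw [QuotientGroup.out_eq', h1 y hy]), _, rfl, h3⟩)
  · rw [← QuotientGroup.out_eq' q, ← QuotientGroup.out_eq' r]
    exact QuotientGroup.eq.2 (eq _ _ e)
  · obtain ⟨h1, g, rfl, h3⟩ : (∀ y ∈ T, y * d = d * y) ∧ ∃ g, g * z * g⁻¹ = d ∧ g⁻¹ * t * g ∉ K := by
      rcases Finset.mem_insert.1 (Finset.mem_coe.1 hd) with rfl | hd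
      exacts [⟨fun y hy => mem_c1.1 (Tz hy), 1, by simp, by simpa using tK⟩, (fin.mem_toFinset.1 hd).2]
    obtain ⟨s, hs⟩ := QuotientGroup.mk_out_eq_mul (𝐂₁(z)) g
    refine ⟨g, Finset.mem_coe.2 (Finset.mem_filter.2 ⟨Finset.mem_univ _, fun y hy => (fx g y).2 (h1 y hy),
      fun l => h3 ?_⟩), ?_⟩
    · have m : g⁻¹ * t * g ∈ 𝐂₁(z) := by
        have := (fx g t).2 (h1 t tT)
        rwa [MulAction.Quotient.smul_mk, eq_comm, QuotientGroup.eq, smul_eq_mul, ← mul_assoc] at this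
      have e : (s : G)⁻¹⁻¹ * ((g * s)⁻¹ * t * (g * s)) * (s : G)⁻¹ = g⁻¹ * t * g := by group
      exact e ▸ nor _ (inv_mem s.2) _ (hs ▸ l) (e ▸ m)
    · simp only [hs]
      rw [mul_assoc g, mem_c1.1 s.2]; group

/-- a subgroup of index two in the centralizer of `z` -/
structure IX (z : G) (K : Subgroup G) : Prop where
  zK : z ∈ K
  le : K ≤ 𝐂₁(z)
  i2 : ∀ a ∈ 𝐂₁(z), ∀ b ∈ 𝐂₁(z), a ∉ K → b ∉ K → a * b ∈ K

namespace IX
variable (I : IX z K) {a b d g : G}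
include I

theorem nor : 𝐂₁(z) ≤ 𝐍(K) := fun a ha => mem_normalizer_fintype fun k hk => by
  by_cases c : a ∈ K
  · exact mul_mem (mul_mem c hk) (inv_mem c)
  · exact I.i2 _ (mul_mem ha (I.le hk)) _ (inv_mem ha) (by rwa [K.mul_mem_cancel_right hk]) (mt inv_mem_iff.1 c)

theorem mem (e : g * z * g⁻¹ = d) : x ∈ fam z K d ↔ g⁻¹ * x * g ∈ K := by
  rw [← e, ← (fam_fam z K).cj, fam_self I.nor, mem_cj]

theorem i2' (e : IsConj z d) (ha : a * d = d * a) (hb : b * d = d * b) (na : a ∉ fam z K d) (nb : b ∉ fam z K d) :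
    a * b ∈ fam z K d := by
  obtain ⟨g, e⟩ := isConj_iff.1 e
  have c : ∀ {a}, a * d = d * a → g⁻¹ * a * g ∈ 𝐂₁(z) := fun k => by
    have := mem_c1.2 (comm_conj k g⁻¹)
    rwa [conj_inv_of e, inv_inv] at this
  rw [I.mem e] at na nb ⊢
  simpa [mul_assoc] using I.i2 _ (c ha) _ (c hb) na nb

theorem self (e : IsConj z d) : d ∈ fam z K d := by
  obtain ⟨g, e⟩ := isConj_iff.1 e
  rw [I.mem e, ← e]
  simpa [mul_assoc] using I.zK

theorem comm (e : IsConj z d) (ha : a * d = d * a) (hb : b * d = d * b) : a * b * a⁻¹ * b⁻¹ ∈ fam z K d := by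
  by_cases c : b ∈ fam z K d
  · exact mul_mem ((fam_fam z K).nor ha c) (inv_mem c)
  · exact I.i2' e (comm_mul (comm_mul ha hb) (comm_inv ha)) (comm_inv hb)
      (mt ((fam_fam z K).of (conj_eq_iff.2 ha)) c) (mt inv_mem_iff.1 c)

/-- conjugates of `z` centralizing `t` and `C_Q(t)` at which `t` is outer -/
def Out (z t : G) (K Q : Subgroup G) : Set G :=
  {d | d ≠ z ∧ IsConj z d ∧ t * d = d * t ∧ (∀ u ∈ Q, u * t = t * u → u * d = d * u) ∧ t ∉ fam z K d}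

theorem parity (n2 : ∀ H : Subgroup G, H.index ≠ 2) {Q : Subgroup G} (l : LQ Q z) (tz : t * z = z * t) (tK : t ∉ K)
    (k : t * t = 1 ∨ t * t = z ∧ ∀ s, s * z = z * s → s * s = 1 → s ∈ K) (σ : G → G)
    (hσ : ∀ d ∈ Out z t K Q, σ d ∈ Out z t K Q ∧ σ d ≠ d ∧ σ (σ d) = d) : False := by
  have t4 : t ^ 2 ^ 2 = 1 := by
    rw [pow_two 2, pow_mul, pow_two, pow_two]
    rcases k with k | ⟨k, -⟩ <;> rw [k]
    exacts [one_mul 1, l.zz]
  have e : XG.Out z t K (Q ⊓ 𝐂₁(t) ⊔ zpowers t) = Out z t K Q := Set.ext fun d =>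
    ⟨fun ⟨h1, h2, g, h3, h4⟩ => ⟨h1, isConj_iff.2 ⟨g, h3⟩, h2 t (mem_sup_right (mem_zpowers t)),
      fun u hu c => h2 u (mem_sup_left ⟨hu, mem_c1.2 c⟩), mt (I.mem h3).1 h4⟩,
    fun ⟨h1, h2, h3, h4, h5⟩ => ⟨h1, fun y hy => mem_c1.1 (sup_le (fun u hu => mem_c1.2 (h4 u hu.1 (mem_c1.1 hu.2)))
      (zpowers_le.2 (mem_c1.2 h3)) hy), (isConj_iff.1 h2).imp fun g c => ⟨c, mt (I.mem c).2 h5⟩⟩⟩
  refine XG.parity (T := Q ⊓ 𝐂₁(t) ⊔ zpowers t) I.i2 (CF.Invol.mem_commutator_of_no_index_two n2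
    (((Nat.dvd_prime_pow Nat.prime_two).1 (orderOf_dvd_of_pow_eq_one t4)).imp fun _ c => c.2)) tK
    ((l.isPGroup.to_le inf_le_left).to_sup_of_normal_left' (.of_card_dvd_pow (Nat.card_zpowers t ▸
      orderOf_dvd_of_pow_eq_one t4)) (zpowers_le.2 (mem_normalizer_fintype fun u hu => by
      rwa [conj_eq_iff.2 (mem_c1.1 hu.2).symm]))) (mem_sup_right (mem_zpowers t))
    (fun y hy => mem_c1.1 (sup_le inf_le_right (zpowers_le.2 (mem_c1.2 rfl)) hy))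
    (sup_le (inf_le_left.trans l.le_c1) (zpowers_le.2 (mem_c1.2 tz))) (fun g n h1 h2 => ?_) σ (e ▸ hσ)
  obtain ⟨m, rfl | rfl⟩ := Nat.even_or_odd' n
  · rw [pow_mul, pow_two] at h2 ⊢
    rcases k with k | ⟨k, k'⟩ <;> rw [k] at h2 ⊢
    · simp
    · refine k' _ (mem_c1.1 h2) ?_
      rw [show g⁻¹ * z ^ m * g * (g⁻¹ * z ^ m * g) = g⁻¹ * (z ^ m * z ^ m) * g by group, ← (Commute.refl z).mul_pow,
        l.zz]
      simp
  · refine (h1 ?_).elim
    have := pow_mem h2 (2 * m + 1)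
    rwa [← inv_inv g, inv_inv g⁻¹, conj_pow, inv_inv, ← pow_mul, show (2 * m + 1) * (2 * m + 1) = 2 ^ 2 * (m * m + m) + 1 by ring,
      pow_succ, pow_mul, t4, one_pow, one_mul] at this

end IX

end CF.XG
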