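import Cfsg.Agent.XG.R

/-! Width three: transfer excludes outer isometries. -/

set_option autoImplicit false
set_option linter.unusedSectionVars false

namespace CF.XG

open Cfsg Subgroup CF.Loc CF.Even CF.LX CF.Geom QuadraticMap

variable {G V : Type*} [Group G] [Finite G] [AddCommGroup V] [Module (ZMod 2) V] {q : QuadraticForm (ZMod 2) V}
  {a b g h t u x y z : G} {v w : V} {p : G → V} {ρ : G → V →ₗ[ZMod 2] V} {W W' : Set V} {e d : Fin 3 → V}

namespace LM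
variable {Q K : Subgroup G} (L : LM Q z p q ρ)
include L

theorem sqz (hx : x ∈ Q) (k : q (p x) = 1) : x * x = z :=
  (L.lq.sq x hx).resolve_left fun l => z01 (((L.sq hx).1 l).symm.trans k)

section
variable (D : Dual q W W' e d) (tz : t * z = z * t) (sw : ∀ w ∈ W, ρ t w ∈ W') (sw' : ∀ w ∈ W', ρ t w ∈ W)
include D tz sw sw'

theorem fixθ (k : ρ t v = v) : ∃ w ∈ W, v = w + ρ t w := by
  obtain ⟨w, h1, w', h2, rfl⟩ := D.sum v
  have : w + ρ t w' = w' + ρ t w := by rw [add_eq_iff, add_assoc, ← map_add, k, add_comm w, vv']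
  have := D.inter (this ▸ D.add h1 (sw' w' h2)) (D.add' h2 (sw w h1))
  exact ⟨w, h1, by rw [add_eq_zero'.1 this]⟩

theorem adjθ (tt : ∀ v, ρ t (ρ t v) = v) : ∃ u ∈ Q, t * u * (t * u) = 1 ∨ t * u * (t * u) = z := by
  have m : t * t ∈ Q := L.mem_of (comm_mul tz tz) fun v => by rw [L.ρ_mul tz tz, tt]
  obtain ⟨w, -, k⟩ := L.fixθ D tz sw sw' (L.fix_of tz m (mul_assoc t t t).symm)
  obtain ⟨u, hu, rfl⟩ := L.surj w
  have e : t * u * (t * u) = t * u * t⁻¹ * (t * t) * u := by group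
  have m' := L.cj tz hu
  refine ⟨u, hu, e ▸ (L.ker (mul_mem (mul_mem m' m) hu)).1 ?_⟩
  rw [L.mul (mul_mem m' m) hu, L.mul m' m, k, ← L.act tz hu, add_comm (p u), vv', vv]

variable (tt : t * t = 1 ∨ t * t = z)
include tt

omit D sw sw' in
theorem θθ (v : V) : ρ t (ρ t v) = v := by
  rw [← L.ρ_mul tz tz, L.ρ_Q (by rcases tt with k | k <;> rw [k]; exacts [one_mem _, L.lq.mem])]

omit sw sw' in
theorem yinv (hx : x ∈ Q) (hw : p x ∈ W) : t * (x * (t * x * t⁻¹)) * t⁻¹ = (x * (t * x * t⁻¹))⁻¹ ∧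
    x * t * x⁻¹ = x * (t * x * t⁻¹) * t := by
  have xi : x⁻¹ = x := inv_eq_of_mul_eq_one_left ((L.sq hx).2 (D.sing hw))
  have : t * t * x * (t * t)⁻¹ = x := by
    rcases tt with k | k <;> rw [k]
    exacts [by simp, conj_eq_iff.2 (L.lq.zc hx).symm]
  refine ⟨?_, by rw [xi]; group⟩
  rw [show t * (x * (t * x * t⁻¹)) * t⁻¹ = t * x * t⁻¹ * (t * t * x * (t * t)⁻¹) by group, this, mul_inv_rev,
    conj_inv, xi]

omit D sw sw' tt in
theorem yp (hx : x ∈ Q) : x * (t * x * t⁻¹) ∈ Q ∧ p (x * (t * x * t⁻¹)) = p x + ρ t (p x) :=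
  ⟨mul_mem hx (L.cj tz hx), by rw [L.mul hx (L.cj tz hx), L.act tz hx]⟩

omit sw' tt in
theorem yq (hw : w ∈ W) : q (w + ρ t w) = polar q w (ρ t w) := by
  rw [quad_add, D.sing hw, D.sing' (sw w hw), zero_add, zero_add]

theorem tsB (hu : u ∈ Q) (ut : u * t = t * u) : u * u = 1 ∧ ∃ x ∈ Q, x * u = u * x ∧ x * t * x⁻¹ = u * t := by
  obtain ⟨w, hw, k⟩ := L.fixθ D tz sw sw' (L.fix_of tz hu ut.symm)
  obtain ⟨x, hx, rfl⟩ := L.surj w
  obtain ⟨h1, h2⟩ := L.yinv D tz tt hx hw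
  obtain ⟨h3, h4⟩ := L.yp tz hx
  have c := (L.eq_iff hu h3).1 (k.trans h4.symm)
  have uu : u * u = 1 := by
    rw [← eq_inv_iff_mul_eq_one, ← conj_eq_iff.2 ut.symm, conj_inv, conj_eq_iff.2 (comm_inv ut).symm]
    rcases c with rfl | rfl
    · exact h1
    · rw [conj_mul_conj, h1, conj_eq_iff.2 tz, mul_inv_rev z, L.lq.zi, L.lq.zc (inv_mem h3)]
  have xu : polar q (p x) (p u) = 0 := by
    rw [k, polar_add_right, pol_self, zero_add, ← L.yq D tz sw hw, ← k, (L.sq hu).1 uu]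
  refine ⟨uu, ?_⟩
  rcases c with c | c
  · exact ⟨x, hx, (L.cm hx hu).2 xu, c ▸ h2⟩
  obtain ⟨⟨w, hw', k'⟩, -⟩ := D.beta (θ := ρ t) (map_add _) (L.ρ_pol tz) sw (L.θθ tz tt)
  obtain ⟨y, hy, rfl⟩ := L.surj w
  obtain ⟨k1, -⟩ := L.yinv D tz tt hy hw'
  obtain ⟨k3, k4⟩ := L.yp tz hy
  have yy := L.sqz k3 (by rw [k4, L.yq D tz sw hw', k'])
  have yu : polar q (p (y * (t * y * t⁻¹))) (p u) = 0 := by
    rw [k4, k, polar_add_left, polar_add_right, polar_add_right, D.WW hw' hw, L.ρ_pol tz, D.WW hw' hw,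
      ← L.ρ_pol tz (ρ t (p y)), L.θθ tz tt, zero_add, add_zero, CharTwo.add_self_eq_zero]
  generalize y * (t * y * t⁻¹) = r at k1 k3 yy yu
  refine ⟨x * r, mul_mem hx k3, comm_mul ((L.cm hx hu).2 xu) ((L.cm k3 hu).2 yu), ?_⟩
  rw [show x * r * t * (x * r)⁻¹ = x * (r * (t * r * t⁻¹)⁻¹) * x⁻¹ * (x * t * x⁻¹) by group, k1, inv_inv, yy, h2, c,
    conj_eq_iff.2 (L.lq.zc hx), mul_assoc z]

theorem tsA (gz : g * z = z * g) (gW : ∀ w ∈ W, ρ g w ∈ W) (gW' : ∀ w ∈ W', ρ g w ∈ W') (gt : t * g = g * t)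
    (k : ∀ u ∈ Q, u * t = t * u → u * g = g * u) : g ∈ Q := by
  have c : ∀ v, ρ t (ρ g v) = ρ g (ρ t v) := fun v => by rw [← L.ρ_mul tz gz, gt, L.ρ_mul gz tz]
  have A : ∀ w ∈ W, polar q w (ρ t w) = 0 → ρ g w = w := fun w hw l => by
    obtain ⟨x, hx, rfl⟩ := L.surj w
    obtain ⟨h3, h4⟩ := L.yp tz hx
    have := L.fix_of gz h3 (k _ h3 (by
      rw [eq_comm, ← conj_eq_iff, (L.yinv D tz tt hx hw).1, inv_eq_iff_mul_eq_one, L.sq h3, h4, L.yq D tz sw hw, l])).symm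
    rw [h4, map_add] at this
    have e : ρ g (p x) + p x = ρ t (p x) + ρ g (ρ t (p x)) := by
      rw [add_eq_iff, add_right_comm, add_comm (ρ t _), ← this, vv'']
    exact add_eq_zero'.1 (D.inter (D.add (gW _ hw) hw) (e ▸ D.add' (sw _ hw) (gW' _ (sw _ hw))))
  have B : ∀ w ∈ W, ρ g w = w := fun w hw => add_eq_zero'.1
    ((D.beta (θ := ρ t) (map_add _) (L.ρ_pol tz) sw (L.θθ tz tt)).2.2 _ (D.add (gW w hw) hw) (by
      rw [map_add, polar_add_left, polar_add_right, polar_add_right, c, L.ρ_pol gz, ← L.ρ_pol tz (ρ g w), L.θθ tz tt, c,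
        polar_comm q (ρ g (ρ t w))]
      generalize polar q w (ρ t w) = i, polar q w (ρ g (ρ t w)) = j
      revert i j; decide)
    fun v hv l => by rw [map_add, polar_add_right, c, ← L.ρ_pol gz v (ρ t w), A v hv l, CharTwo.add_self_eq_zero])
  refine L.mem_of gz fun v => ?_
  obtain ⟨w, h1, w', h2, rfl⟩ := D.sum v
  rw [map_add, B w h1, ← L.θθ tz tt w', ← c, B _ (sw' w' h2)]

theorem tsN (I : IX z K) (zt : IsConj z t) : ∃ n ∈ Q, n * t = t * n ∧ n ≠ 1 ∧ n ∈ fam z K t := by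
  obtain ⟨-, ⟨w, hw, w0, l⟩, -⟩ := D.beta (θ := ρ t) (map_add _) (L.ρ_pol tz) sw (L.θθ tz tt)
  obtain ⟨x, hx, rfl⟩ := L.surj w
  obtain ⟨h3, h4⟩ := L.yp tz hx
  have c : x * (t * x * t⁻¹) * t = t * (x * (t * x * t⁻¹)) := by
    rw [eq_comm, ← conj_eq_iff, (L.yinv D tz tt hx hw).1, inv_eq_iff_mul_eq_one, L.sq h3, h4, L.yq D tz sw hw, l]
  have n : p (x * (t * x * t⁻¹)) ≠ 0 := fun m => w0 (D.inter hw (add_eq_zero'.1 (h4.symm.trans m) ▸ sw _ hw))
  generalize x * (t * x * t⁻¹) = r at h3 c n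
  by_cases k : z ∈ fam z K t
  · exact ⟨z, L.lq.mem, tz.symm, L.lq.z_ne, k⟩
  by_cases k' : r ∈ fam z K t
  · exact ⟨r, h3, c, fun m => n (m ▸ L.one), k'⟩
  exact ⟨_, mul_mem L.lq.mem h3, comm_mul tz.symm c, fun m => n (by rw [← L.zmul h3, m, L.one]),
    I.i2' zt tz.symm c k k'⟩

end

theorem lift_refl (h6 : Six q) (hv : q v = 1) (gz : g * z = z * g) (k : ∀ u, ρ g u = u + polar q u v • v) :
    ∃ c ∈ Q, ∃ x ∈ Q, polar q v (p x) = 1 ∧ g * c * x * (g * c * x) = 1 ∧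
      ∀ y ∈ Q, polar q (p y) v = 0 → g * c * y = y * (g * c) := by
  classical
  obtain ⟨r, hr, rfl⟩ := L.surj v
  have f : ∀ y ∈ Q ⊓ 𝐂₁(r), g * y * g⁻¹ = y ∨ g * y * g⁻¹ = z * y := fun y hy =>
    (L.fix_iff gz hy.1).1 (by rw [k, (L.cm hy.1 hr).1 (mem_c1.1 hy.2), zero_smul, add_zero])
  have zn : ∀ y, z * y ≠ y := by simpa using L.lq.z_ne
  obtain ⟨c, hc, hf⟩ := L.exists_fun (W := Q ⊓ 𝐂₁(r)) ⟨L.lq.mem, mem_c1.2 (L.lq.zc hr).symm⟩ inf_le_left
    (fun y => if g * y * g⁻¹ = y then 0 else 1) (if_pos (conj_eq_iff.2 gz)) fun x hx y hy => by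
      rw [conj_mul_conj]
      rcases f x hx with e | e <;> rcases f y hy with e' | e' <;> rw [e, e']
      · simp
      · simp [zn]
      · simp [zn, mul_assoc]
      · rw [mul_assoc z, ← mul_assoc x, L.lq.zc hx.1, mul_assoc z, ← mul_assoc z, L.lq.zz]; simp [zn, z11]
  have A : ∀ y ∈ Q, polar q (p y) (p r) = 0 → g * c * y = y * (g * c) := fun y hy l => by
    have m : y ∈ Q ⊓ 𝐂₁(r) := ⟨hy, mem_c1.2 ((L.cm hy hr).2 l)⟩
    have := hf y m
    rw [← conj_eq_iff, show g * c * y * (g * c)⁻¹ = g * (c * y * c⁻¹) * g⁻¹ by group]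
    rcases f y m with e | e
    · rw [if_pos e] at this
      rw [conj_eq_iff.2 ((L.cm hc hy).2 (pc this)), e]
    · rw [if_neg (e ▸ zn y)] at this
      rw [(L.lq.conj_cases hc hy).resolve_left fun l => z01 (((L.cm hc hy).1 (conj_eq_iff.1 l)).symm.trans (pc this)),
        conj_mul_conj, e, conj_eq_iff.2 gz, ← mul_assoc, L.lq.zz, one_mul]
  have sz := comm_mul gz (L.lq.zc hc)
  have k' : ∀ u, ρ (g * c) u = u + polar q u (p r) • p r := fun u => by rw [L.ρ_mul gz (L.lq.zc hc), L.ρ_Q hc, k]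
  generalize hs : g * c = s at A sz k'
  have r0 : p r ≠ 0 := fun l => z01 (by rw [← hv, l, map_zero])
  obtain ⟨w, hw⟩ := L.exists_one r0
  obtain ⟨x, hx, rfl⟩ := L.surj w
  have m : s * s ∈ Q := L.mem_of (comm_mul sz sz) fun u => by
    rw [L.ρ_mul sz sz, k', k', polar_add_left, polar_smul_left, pol_self, smul_zero, add_zero, vv'']
  have m' := L.cj sz hx
  have e1 : p (s * x * s⁻¹) = p x + p r := by rw [← L.act sz hx, k', hw, one_smul]
  have e2 : p (s * s) = p r := (L.perp_perp r0 (L.ind fun y hy l => (L.cm hy m).1 (comm_mul (A y hy l) (A y hy l)).symm)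
    ).resolve_left fun l => by
      have a1 := mul_mem m' (inv_mem hx)
      have a2 : p (s * x * s⁻¹ * x⁻¹) = p r := by rw [L.mul m' (inv_mem hx), L.inv hx, e1, add_comm, vv']
      have a3 := conj_eq_iff.2 (A _ a1 (by rw [a2, pol_self]))
      have a4 := conj_eq_iff.2 ((L.cm m hx).2 (by rw [l, polar_zero_left]))
      refine zn x ?_
      calc z * x = s * (s * x * s⁻¹ * x⁻¹) * s⁻¹ * (s * x * s⁻¹ * x⁻¹) * x := by rw [a3, L.sqz a1 (a2 ▸ hv)]
        _ = s * s * x * (s * s)⁻¹ := by group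
        _ = x := a4
  have e3 : s * x * (s * x) = 1 ∨ s * x * (s * x) = z := by
    rw [show s * x * (s * x) = s * x * s⁻¹ * (s * s) * x by group, ← L.ker (mul_mem (mul_mem m' m) hx),
      L.mul (mul_mem m' m) hx, L.mul m' m, e1, e2, vv'', vv]
  subst hs
  rcases e3 with e3 | e3
  · exact ⟨c, hc, x, hx, pc hw, e3, A⟩
  obtain ⟨u, u0, u1, u2, -⟩ := h6.ex_perp (p r) (p x) 0 0
  obtain ⟨w, ⟨w1, w2⟩, w3⟩ := h6.ex_ns (fun v => polar q v (p r) = 0 ∧ polar q v (p x) = 0)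
    (fun u v k l => by simp [polar_add_left, k, l]) ⟨u1, u2⟩ u0 fun v =>
    ⟨_, proj (pc hw) v, by simp [polar_add_left, polar_smul_left, pc u1, pc u2]⟩
  obtain ⟨y, hy, rfl⟩ := L.surj w
  refine ⟨c, hc, x * y, mul_mem hx hy, by rw [L.mul hx hy, polar_add_right, pc hw, pc w1, add_zero], ?_, A⟩
  have := comm_mul (A y hy w1) ((L.cm hx hy).2 (pc w2))
  rw [← mul_assoc (g * c) x y, mul_assoc _ y, ← mul_assoc y, ← this, ← mul_assoc, ← mul_assoc, e3, mul_assoc,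
    L.sqz hy w3, L.lq.zz]

theorem no_refl (h6 : Six q) (n2 : ∀ H : Subgroup G, H.index ≠ 2) (I : IX z K) (QK : Q ≤ K) (hv : q v = 1)
    (gz : g * z = z * g) (gK : g ∉ K) (k : ∀ u, ρ g u = u + polar q u v • v) : False := by
  obtain ⟨c, hc, x, hx, vx, tt, A⟩ := L.lift_refl h6 hv gz k
  have sz := comm_mul gz (L.lq.zc hc)
  have tz := comm_mul sz (L.lq.zc hx)
  have k' : ∀ u, ρ (g * c * x) u = u + polar q u v • v := fun u => by
    rw [L.ρ_mul sz (L.lq.zc hx), L.ρ_mul gz (L.lq.zc hc), L.ρ_Q hx, L.ρ_Q hc, k]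
  have tK : g * c * x ∉ K := by rwa [K.mul_mem_cancel_right (QK hx), K.mul_mem_cancel_right (QK hc)]
  have B : ∀ y ∈ Q, polar q (p y) v = 0 → (y * (g * c * x) = g * c * x * y ↔ polar q (p y) (p x) = 0) :=
    fun y hy l => by rw [← L.cm hy hx, ← mul_assoc, ← A y hy l, mul_assoc, mul_assoc (g * c), mul_right_inj]
  generalize g * c * x = t at tt tz k' tK B
  have v0 : v ≠ 0 := fun l => z01 (by rw [← hv, l, map_zero])
  have dec : ∀ u, u = u + polar q u (p x) • v + polar q u v • p x + polar q u (p x) • v + polar q u v • p x :=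
    fun u => by rw [add_right_comm _ _ (_ • v), vv'', vv'']
  have E : ∀ u ∈ Q, u * t = t * u → (∀ y ∈ Q, y * t = t * y → y * u = u * y) → u = 1 ∨ u = z := fun u hu h1 h2 => by
    have a1 : polar q (p u) v = 0 := z2_ne' fun l => v0 (by simpa [k', l] using L.fix_of tz hu h1.symm)
    refine (L.ker hu).1 (L.nd fun w => ?_)
    obtain ⟨y, hy, e⟩ := L.surj (w + polar q w (p x) • v + polar q w v • p x)
    obtain ⟨b1, b2⟩ := proj vx w
    rw [← e] at b1 b2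
    rw [dec w, ← e]
    simp [polar_add_left, polar_smul_left, pc a1, pc ((B u hu a1).1 h1), (L.cm hy hu).1 (h2 y hy ((B y hy b1).2 b2))]
  refine I.parity n2 L.lq tz tK (.inl tt) id fun d ⟨h1, h2, h3, h4, h5⟩ => (h5 ?_).elim
  have dz := (h4 z L.lq.mem tz.symm).symm
  have a1 : ρ d v = v := by
    have : ρ d (ρ t (p x)) = ρ t (ρ d (p x)) := by rw [← L.ρ_mul dz tz, ← h3, L.ρ_mul tz dz]
    rw [k', k', pc vx, one_smul, map_add, add_right_inj] at this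
    rcases z2 (polar q (ρ d (p x)) v) with l | l <;> rw [l] at this
    exacts [(v0 (L.ρ_inj dz (by simpa using this))).elim, by simpa using this]
  have a2 : ∀ w, ρ d w = w + polar q w v • (ρ d (p x) + p x) := fun w => by
    obtain ⟨y, hy, e⟩ := L.surj (w + polar q w (p x) • v + polar q w v • p x)
    obtain ⟨b1, b2⟩ := proj vx w
    rw [← e] at b1 b2
    have := L.fix_of dz hy (h4 y hy ((B y hy b1).2 b2)).symm
    rw [e, map_add, map_add, map_smul, map_smul, a1, add_eq_iff, add_eq_iff] at this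
    rw [this]
    generalize polar q w v = i, polar q w (p x) = j
    apply v2; match_scalars <;> revert i j <;> decide
  rcases L.perp_perp v0 (t := ρ d (p x) + p x) fun w l => by
    rw [polar_add_right, ← L.ρ_pol dz w (p x), a2 w, l, zero_smul, add_zero, CharTwo.add_self_eq_zero] with l | l
  · obtain ⟨g, rfl⟩ := isConj_iff.1 h2
    exact ((E _ (L.mem_of dz fun w => by rw [a2, l, smul_zero, add_zero]) h3.symm h4).elim
      (by simpa using L.lq.z_ne) h1).elim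
  have iz := comm_inv tz
  rcases E (d * t⁻¹) (L.mem_of (comm_mul dz iz) fun w => by rw [L.ρ_mul dz iz, a2, l, ← k', L.ρ_inv' tz])
    (comm_mul h3.symm (comm_inv rfl)) fun y hy l => (comm_mul (h4 y hy l).symm (comm_inv l.symm)).symm with e | e
  · exact mul_inv_eq_one.1 e ▸ I.self h2
  obtain ⟨u, u0, u1, u2, -⟩ := h6.ex_perp v (p x) 0 0
  obtain ⟨w, hw⟩ := L.exists_one u0
  obtain ⟨y, hy, e'⟩ := L.surj (w + polar q w (p x) • v + polar q w v • p x)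
  obtain ⟨b1, b2⟩ := proj vx w
  have b3 : polar q (w + polar q w (p x) • v + polar q w v • p x) u = 1 := by
    simp [polar_add_left, polar_smul_left, pc u1, pc u2, hw]
  rw [← e'] at b1 b2 b3
  obtain ⟨r, hr, rfl⟩ := L.surj u
  have := I.comm h2 (h4 y hy ((B y hy b1).2 b2)) (h4 r hr ((B r hr u1).2 u2))
  rw [(L.lq.conj_cases hy hr).resolve_left fun l => z01 (((L.cm hy hr).1 (conj_eq_iff.1 l)).symm.trans b3),
    mul_inv_cancel_right, ← e] at this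
  exact inv_mem_iff.1 ((mul_mem_cancel_left (I.self h2)).1 (by rwa [e] at this ⊢))

end LM

variable {Q : G → Subgroup G} {D : Set G} {n : ℕ}

theorem Sys.no_ts (S : Sys Q D n) (L : LM (Q z) z p q ρ) (hz : z ∈ D) (n2 : ∀ H : Subgroup G, H.index ≠ 2)
    (T : TS q (vΓ Q D z p) (vN z ρ) W W' e d) : False := by
  have Du := T.toDual
  have act := fun g (hg : g * z = z * g) => T.act ⟨g, hg, rfl⟩
  have e0 : e 0 ≠ 0 := fun l => by simpa [l] using Du.dual 0 0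
  have no : ∀ g, g * z = z * g ∧ (∀ w ∈ W, ρ g w ∈ W) → ¬ ∀ w ∈ W, ρ g w ∈ W' := fun g h1 h2 =>
    e0 (L.ρ_inj h1.1 ((Du.inter (h1.2 _ (Du.eW 0)) (h2 _ (Du.eW 0))).trans (map_zero _).symm))
  let K : Subgroup G := ⟨⟨⟨{g | g * z = z * g ∧ ∀ w ∈ W, ρ g w ∈ W}, fun ha hb => ⟨comm_mul ha.1 hb.1, fun w hw => by
    rw [L.ρ_mul ha.1 hb.1]; exact ha.2 _ (hb.2 w hw)⟩⟩, by simp, fun w hw => by rwa [L.ρ_Q (one_mem _)]⟩,
    fun {g} hg => ⟨comm_inv hg.1, ((act _ (comm_inv hg.1)).resolve_right fun k =>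
      e0 (Du.inter (Du.eW 0) (L.ρ_inv hg.1 (e 0) ▸ k.1 _ (hg.2 _ (Du.eW 0))))).1⟩⟩
  have out : ∀ g, g * z = z * g → g ∉ K → (∀ w ∈ W, ρ g w ∈ W') ∧ ∀ w ∈ W', ρ g w ∈ W := fun g hg k =>
    (act g hg).resolve_left fun l => k ⟨hg, l.1⟩
  have QK : Q z ≤ K := fun u hu => ⟨S.zc hz hu, fun w hw => by rwa [L.ρ_Q hu]⟩
  have I : IX z K := ⟨QK (S.mem hz), fun g hg => mem_c1.2 hg.1, fun a ha b hb h1 h2 =>
    ⟨comm_mul (mem_c1.1 ha) (mem_c1.1 hb), fun w hw => by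
      rw [L.ρ_mul (mem_c1.1 ha) (mem_c1.1 hb)]
      exact (out a (mem_c1.1 ha) h1).2 _ ((out b (mem_c1.1 hb) h2).1 w hw)⟩⟩
  obtain ⟨t, tz, tK, tt⟩ : ∃ t, t * z = z * t ∧ t ∉ K ∧
      (t * t = 1 ∨ t * t = z ∧ ∀ s, s * z = z * s → s * s = 1 → s ∈ K) := by
    by_cases c : ∀ s, s * z = z * s → s * s = 1 → s ∈ K
    · obtain ⟨_, ⟨g, gz, rfl⟩, h1, h2⟩ := T.theta
      have gK : g ∉ K := fun l => no g l h1
      obtain ⟨u, hu, k⟩ := L.adjθ Du gz h1 (out g gz gK).2 h2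
      exact ⟨g * u, comm_mul gz (S.zc hz hu), by rwa [K.mul_mem_cancel_right (QK hu)], k.imp_right fun l => ⟨l, c⟩⟩
    · push Not at c
      obtain ⟨s, h1, h2, h3⟩ := c
      exact ⟨s, h1, h3, .inl h2⟩
  have tt' : t * t = 1 ∨ t * t = z := tt.imp_right fun l => l.1
  obtain ⟨sw, sw'⟩ := out t tz tK
  have A : ∀ g ∈ K, t * g = g * t → (∀ u ∈ Q z, u * t = t * u → u * g = g * u) → g ∈ Q z := fun g hg =>
    L.tsA Du tz sw sw' tt' hg.1 hg.2 ((act g hg.1).resolve_right fun l => no g hg l.1).2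
  have B : ∀ d ∈ IX.Out z t K (Q z), ∃ u ∈ Q z, u * t = t * u ∧ d = u * t := by
    rintro d ⟨h1, h2, h3, h4, -⟩
    have dz := (h4 z (S.mem hz) tz.symm).symm
    by_cases c : d ∈ K
    · obtain ⟨g, h2⟩ := isConj_iff.1 h2
      have j : Adj Q D z d := ⟨hz, S.cj' hz h2, A d c h3 h4, h1⟩
      have := L.fix_of tz j.aQ h3
      rcases T.sub ⟨d, j, rfl⟩ with l | l
      exacts [(S.p_ne L j (Du.inter l (this ▸ sw _ l))).elim, (S.p_ne L j (Du.inter (this ▸ sw' _ l) l)).elim]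
    · have c1 : d * t⁻¹ * t = t * (d * t⁻¹) := comm_mul h3.symm (comm_inv rfl)
      exact ⟨_, A _ (I.i2 _ (mem_c1.2 dz) _ (inv_mem (mem_c1.2 tz)) c (mt inv_mem_iff.1 tK)) c1.symm
        fun u hu l => (comm_mul (h4 u hu l).symm (comm_inv l.symm)).symm, c1, by simp⟩
  have F := fam_fam z K
  have E : ∀ u ∈ Q z, u * t = t * u → (IsConj z (u * t) ↔ IsConj z t) ∧
      (IsConj z (u * t) → (t ∈ XG.fam z K (u * t) ↔ u ∈ XG.fam z K t)) := fun u hu ut => by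
    obtain ⟨-, x, hx, h1, h2⟩ := L.tsB Du tz sw sw' tt' hu ut
    have c : IsConj t (u * t) := isConj_iff.2 ⟨x, h2⟩
    refine ⟨⟨fun l => l.trans c.symm, fun l => l.trans c⟩, fun l => ?_⟩
    rw [← F.iff (g := x) (x := u), h2, conj_eq_iff.2 h1, ← mul_mem_cancel_right (inv_mem (I.self l)), ← inv_mem_iff]
    simp [mul_assoc]
  by_cases zt : IsConj z t
  swap
  · refine I.parity n2 (S.lq hz) tz tK tt id fun d hd => (zt ?_).elim
    obtain ⟨u, hu, ut, rfl⟩ := B d hd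
    exact (E u hu ut).1.1 hd.2.1
  obtain ⟨n, hn, nt, n1, nK⟩ := L.tsN Du tz sw sw' tt' I zt
  refine I.parity n2 (S.lq hz) tz tK tt (n * ·) fun d hd => ⟨?_, by simpa using n1,
    by rw [← mul_assoc, (L.tsB Du tz sw sw' tt' hn nt).1, one_mul]⟩
  obtain ⟨u, hu, ut, rfl⟩ := B d hd
  obtain ⟨h1, h2, h3, h4, h5⟩ := hd
  have c := comm_mul nt ut
  obtain ⟨E1, E2⟩ := E _ (mul_mem hn hu) c
  rw [← mul_assoc]
  refine ⟨fun l => tK ((K.mul_mem_cancel_left (QK (mul_mem hn hu))).1 (l ▸ I.zK)), E1.2 zt,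
    (comm_mul c rfl).symm, fun y hy yt => ?_, fun l => h5 (((E u hu ut).2 h2).2 ?_)⟩
  · have := fun v hv vt => (L.tsB Du tz sw sw' tt' (u := v) hv vt).1
    refine (comm_mul ?_ yt.symm).symm
    rw [← inv_eq_of_mul_eq_one_left (this _ (mul_mem (mul_mem hn hu) hy) (comm_mul c yt)), mul_inv_rev,
      inv_eq_of_mul_eq_one_left (this _ hy yt), inv_eq_of_mul_eq_one_left (this _ (mul_mem hn hu) c)]
  · exact (mul_mem_cancel_left nK).1 ((E2 (E1.2 zt)).1 l)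

end CF.XG
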