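import Cfsg.Agent.XG.S
import Cfsg.Agent.Geom.OmegaIndex
import Cfsg.Agent.Geom.Orders

/-! Width three: the order of the centralizer in the elliptic case. -/

set_option autoImplicit false
set_option linter.unusedSectionVars false

namespace CF.XG

open Cfsg Subgroup CF.Loc CF.Even CF.LX CF.Geom QuadraticMap

variable {G V : Type*} [Group G] [Finite G] [AddCommGroup V] [Module (ZMod 2) V] {q : QuadraticForm (ZMod 2) V}
  {z : G} {p : G → V} {ρ : G → V →ₗ[ZMod 2] V}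

theorem LM.card_minus {Q : Subgroup G} (L : LM Q z p q ρ) (h6 : Six q) (n2 : ∀ H : Subgroup G, H.index ≠ 2)
    (np : ¬ IsPlus q) (c : Nat.card Q = 2 ^ 7)
    (full : ∀ u w, u ≠ 0 → q u = 0 → polar q w u = 0 → ∃ g, g * z = z * g ∧ ∀ v, ρ g v = sg q u w v) :
    Nat.card 𝐂₁(z) = 3317760 := by
  haveI := Module.finite_of_finrank_pos (h6.dim ▸ (by decide : 0 < 6) : 0 < Module.finrank (ZMod 2) V)
  haveI := Module.nontrivial_of_finrank_pos (h6.dim ▸ (by decide : 0 < 6) : 0 < Module.finrank (ZMod 2) V)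
  let f : 𝐂₁(z) →* OG q := MonoidHom.mk' (fun g => ⟨LinearEquiv.ofLinear (ρ g) (ρ g.1⁻¹)
    (LinearMap.ext (L.ρ_inv' (mem_c1.1 g.2))) (LinearMap.ext (L.ρ_inv (mem_c1.1 g.2))), mem_OG.2 (L.ρ_q (mem_c1.1 g.2))⟩)
    fun g h => Subtype.ext (LinearEquiv.ext (L.ρ_mul (mem_c1.1 g.2) (mem_c1.1 h.2)))
  have hf : ∀ g v, (f g).1 v = ρ g v := fun _ _ => rfl
  have k : ∀ g, f g = 1 ↔ g.1 ∈ Q := fun g => ⟨fun e => L.mem_of (mem_c1.1 g.2) fun v => by rw [← hf, e]; rfl,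
    fun e => Subtype.ext (LinearEquiv.ext (L.ρ_Q e))⟩
  have top := reflSub_eq_top L.nondeg (.inr (by rw [h6.dim]; decide))
  have i2 := index_commutator_even L.nondeg rfl top
  have le : commutator (OG q) ≤ f.range := by
    rw [commutator_eq_eichlerSub_of_finite L.nondeg (.inr (by rw [h6.dim]; decide)) (by rw [h6.dim]; decide), closure_le]
    rintro _ ⟨u, w, hu, hw, rfl⟩
    obtain ⟨g, gz, e⟩ : ∃ g, g * z = z * g ∧ ∀ v, ρ g v = sg q u w v := by
      by_cases u0 : u = 0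
      exacts [⟨1, by simp, fun v => by simp [L.ρ_Q (one_mem _), sg, u0]⟩, full u w u0 hu (pc hw)]
    exact ⟨⟨g, mem_c1.2 gz⟩, Subtype.ext (LinearEquiv.ext fun v => (e v).trans (sg_eichler u w v))⟩
  have ge : f.range ≤ commutator (OG q) := fun x hx => by
    by_contra n
    obtain ⟨v, hv, nv⟩ : ∃ v, q v ≠ 0 ∧ oRefl q v ∉ commutator (OG q) := by
      by_contra! l
      exact n ((closure_le _).2 (by rintro _ ⟨v, hv, rfl⟩; exact l v hv) (top.ge (mem_top x)))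
    obtain ⟨g, e⟩ := (mul_mem_cancel_left hx).1 (le ((mul_mem_iff_of_index_two i2).2 (iff_of_false n nv)))
    have m : ∀ g : 𝐂₁(z), g.1 ∈ ((commutator (OG q)).comap f).map (𝐂₁(z)).subtype ↔ f g ∈ commutator (OG q) :=
      fun g => mem_map_iff_mem Subtype.val_injective
    have QK : Q ≤ ((commutator (OG q)).comap f).map (𝐂₁(z)).subtype := fun y hy =>
      (m ⟨y, L.lq.le_c1 hy⟩).2 ((k ⟨y, L.lq.le_c1 hy⟩).2 hy ▸ one_mem _)
    refine L.no_refl h6 n2 ⟨QK L.lq.mem, map_subtype_le _, fun a ha b hb h1 h2 => (m (⟨a, ha⟩ * ⟨b, hb⟩)).2 ?_⟩ QK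
      (z2_ne hv) (mem_c1.1 g.2) (mt (m g).1 (e ▸ nv)) fun u => ?_
    · rw [map_mul]
      exact (mul_mem_iff_of_index_two i2).2 (iff_of_false (mt (m ⟨a, ha⟩).2 h1) (mt (m ⟨b, hb⟩).2 h2))
    · rw [← hf, e, oRefl_apply, z2_ne hv, inv_one, one_mul, polar_comm, sub_eq_add_neg, ZModModule.neg_eq_self]
  have a := (commutator (OG q)).card_mul_index
  rw [i2, card_OG_minus L.nondeg np (m := 2) h6.dim, Nat.card_zmod] at a
  rw [card_eq_mul f, le_antisymm ge le, show f.ker = Q.subgroupOf _ from Subgroup.ext k,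
    Nat.card_congr (subgroupOfEquivOfLe L.lq.le_c1).toEquiv, c]
  simp [Finset.prod_range_succ] at a
  omega

end CF.XG
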