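import Cfsg.Agent.XG.T

/-! Width three: the hyperbolic case does not occur. -/

set_option autoImplicit false
set_option linter.unusedSectionVars false

namespace CF.XG

open Cfsg Subgroup CF.Loc CF.Even CF.LX CF.Geom QuadraticMap

variable {G V : Type*} [Group G] [Finite G] [AddCommGroup V] [Module (ZMod 2) V] {q : QuadraticForm (ZMod 2) V}
  {Q : G → Subgroup G} {D : Set G} {n : ℕ} {a b g m t x y z : G} {p : G → V} {ρ : G → V →ₗ[ZMod 2] V} {c u v w : V}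

theorem comm_conj_iff (g : G) : g * x * g⁻¹ * (g * y * g⁻¹) = g * y * g⁻¹ * (g * x * g⁻¹) ↔ x * y = y * x := by
  rw [← conj_mul_conj, ← conj_mul_conj]; simp

theorem sg_sing (hc : q c = 0) (u v : V) : sg q u c v = v + polar q v u • c + polar q v c • u := by simp [sg, hc]

theorem Six.duals (h : Six q) (u0 : u ≠ 0) (v0 : v ≠ 0) (uv : v ≠ u) : ∃ x y, polar q x u = 1 ∧ polar q x v = 0 ∧
    polar q y u = 0 ∧ polar q y v = 1 := by
  obtain ⟨x, h1, h2⟩ := h.sep u0 uv.symm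
  obtain ⟨y, h3, h4⟩ := h.sep v0 uv
  exact ⟨x, y, h2, h1, h3, h4⟩

theorem Six.plus (h : Six q) (pl : IsPlus q) (u0 : u ≠ 0) (v0 : v ≠ 0) (uv : v ≠ u) :
    ∃ d, q d = 0 ∧ polar q d u = 0 ∧ polar q d v = 0 ∧ ∀ i j : ZMod 2, d ≠ i • u + j • v := by
  haveI := Module.finite_of_finrank_pos (h.dim ▸ (by decide : 0 < 6) : 0 < Module.finrank (ZMod 2) V)
  obtain ⟨U, h1, h2⟩ := pl
  have A : ∀ s t, ∃ w ∈ U, w ≠ 0 ∧ polar q w s = 0 ∧ polar q w t = 0 := fun s t => by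
    obtain ⟨w, hw, n⟩ := Submodule.exists_mem_ne_zero_of_ne_bot (LinearMap.ker_ne_bot_of_finrank_lt
      (f := (LinearMap.pi fun i : Fin 2 => polarBilin q (![s, t] i)) ∘ₗ U.subtype) (by rw [h.dim] at h1; simp; omega))
    have := fun i => congrFun (LinearMap.mem_ker.1 hw) i
    exact ⟨w, w.2, fun l => n (Subtype.ext l), pc (this 0), pc (this 1)⟩
  have o : ∀ s ∈ U, ∀ t ∈ U, polar q s t = 0 := fun s hs t ht => pol_of_q (h2 s hs) (h2 t ht) (h2 _ (U.add_mem hs ht))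
  by_contra! k
  obtain ⟨x, y, x1, x2, y1, y2⟩ := h.duals u0 v0 uv
  have B : ∀ w ∈ U, polar q w u = 0 → polar q w v = 0 → w = polar q w x • u + polar q w y • v := fun w hw l1 l2 => by
    obtain ⟨i, j, rfl⟩ := k w (h2 w hw) l1 l2
    simp [polar_add_left, polar_smul_left, pc x1, pc x2, pc y1, pc y2]
  have E : ∀ w : V, w ≠ 0 → ∀ (i : ZMod 2) s, w = i • s → s = w := fun w n i s e => by
    rcases z2 i with rfl | rfl
    exacts [(n (by simpa using e)).elim, by simpa using e.symm]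
  obtain ⟨hu, hv⟩ : u ∈ U ∧ v ∈ U := by
    obtain ⟨w, hw, w0, w1, w2⟩ := A u v
    have e := B w hw w1 w2
    rcases z2 (polar q w x) with l | l <;> rw [l] at e
    · obtain rfl := E w w0 _ v (by simpa using e)
      obtain ⟨s, hs, s0, s1, s2⟩ := A u y
      have := B s hs s1 (o s hs v hw)
      rw [s2, zero_smul, add_zero] at this
      exact ⟨E s s0 _ u this ▸ hs, hw⟩
    · obtain ⟨s, hs, s0, s1, s2⟩ := A v x
      have := o s hs w hw
      rw [e] at this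
      have := B s hs (by simpa [polar_add_right, polar_smul_right, s1] using this) s1
      rw [s2, zero_smul, zero_add] at this
      have hv : v ∈ U := E s s0 _ v this ▸ hs
      rw [one_smul, eq_comm, add_eq_iff] at e
      exact ⟨e ▸ U.add_mem hw (U.smul_mem _ hv), hv⟩
  obtain ⟨s, hs, s0, s1, s2⟩ := A x y
  exact s0 (by simpa [s1, s2] using B s hs (o s hs u hu) (o s hs v hv))

theorem Six.plus' (h : Six q) (pl : IsPlus q) (u0 : u ≠ 0) (v0 : v ≠ 0) (uv : v ≠ u) (qu : q u = 0) (qv : q v = 0)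
    (o : polar q v u = 0) : ∃ w, q w = 1 ∧ polar q w u = 0 ∧ polar q w v = 0 ∧ ∀ w', q w' = 1 → polar q w' u = 0 →
      polar q w' v = 0 → ∃ i j : ZMod 2, w' + w = i • u + j • v := by
  obtain ⟨d, qd, du, dv, n⟩ := h.plus pl u0 v0 uv
  obtain ⟨s, s1, s2, s3⟩ := h.sep2 n
  obtain ⟨x, y, x1, -, y1, y2⟩ := h.duals u0 v0 uv
  have A := fun w => h.span3 (v := w) o du dv x1 y1 s1 y2 s2 s3
  have B : ∀ w, q w = 1 → polar q w u = 0 → polar q w v = 0 → polar q w d = 1 := fun w h1 h2 h3 => z2_ne fun l => by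
    obtain ⟨i, j, k, rfl⟩ := A w h2 h3 l
    simp [quad_add, q_smul, polar_add_left, polar_smul_left, polar_smul_right, qu, qv, qd, pc o, pc du, pc dv] at h1
  obtain ⟨w, w1, w2, w3⟩ : ∃ w, q w = 1 ∧ polar q w u = 0 ∧ polar q w v = 0 := by
    rcases z2 (q s) with l | l
    · exact ⟨s + d, by rw [quad_add, l, qd, s3]; rfl, by rw [polar_add_left, s1, du, add_zero],
        by rw [polar_add_left, s2, dv, add_zero]⟩
    · exact ⟨s, l, s1, s2⟩
  refine ⟨w, w1, w2, w3, fun w' k1 k2 k3 => ?_⟩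
  obtain ⟨i, j, k, e⟩ := A (w' + w) (by rw [polar_add_left, k2, w2, add_zero]) (by rw [polar_add_left, k3, w3, add_zero])
    (by rw [polar_add_left, B w' k1 k2 k3, B w w1 w2 w3, z11])
  have : k = 0 := by
    rw [add_eq_iff.1 e] at k1
    simpa [quad_add, q_smul, polar_add_left, polar_smul_left, polar_smul_right, qu, qv, qd, pc o, pc du, pc dv, w1,
      pc w2, pc w3, pc (B w w1 w2 w3)] using k1
  exact ⟨i, j, by simpa [this] using e⟩

namespace Sys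
variable (S : Sys Q D n) (h6 : Six q) (hL : ∀ d ∈ D, ∃ p ρ, LM (Q d) d p q ρ)
  (E : ∀ {d a y}, Adj Q D d a → y ∈ Q d → y ∈ Q a → y = 1 ∨ y = d ∨ y = a ∨ y = d * a)
include S

include E in
theorem r_sym (j : Adj Q D z a) (hx : x ∈ Q z) (c : x * a * x⁻¹ = z * a) (hm : m ∈ Q a) (mz : m * z = z * m)
    (ht : t ∈ Q z) (k : m * t ∈ Q (z * a)) (hb : b ∈ Q a) (bz : b * z = z * b) :
    m * t * (x * b * x⁻¹) = x * b * x⁻¹ * (m * t) ↔ m * b = b * m := by
  have r : b * (x * (m * t) * x⁻¹ * m⁻¹) = x * (m * t) * x⁻¹ * m⁻¹ * b := by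
    rcases E j (y := x * (m * t) * x⁻¹ * m⁻¹) (by
      simpa [mul_assoc] using mul_mem (S.comm_mem hx mz) (S.fam.nor mz (mul_mem (mul_mem hx ht) (inv_mem hx))))
      (mul_mem (S.fam.mv (S.x_back j hx c) k) (inv_mem hm)) with e | e | e | e <;> rw [e]
    exacts [by simp, bz, S.zc j.aD hb, (comm_mul bz.symm (S.zc j.aD hb).symm).symm]
  have s : x * (x * b * x⁻¹) * x⁻¹ = b := by
    rw [show x * (x * b * x⁻¹) * x⁻¹ = x * x * b * (x * x)⁻¹ by group, conj_eq_iff]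
    rcases (S.lq j.zD).sq x hx with e | e <;> rw [e]
    exacts [by simp, bz.symm]
  rw [← comm_conj_iff x, s, ← inv_mul_cancel_right (x * (m * t) * x⁻¹) m, ← mul_assoc b, r, mul_assoc _ m,
    mul_assoc _ b, mul_right_inj]

include h6 in
theorem r_comm (L : LM (Q z) z p q ρ) (j : Adj Q D z a) (hx : x ∈ Q z) (c : x * a * x⁻¹ = z * a) (hb : b ∈ Q a)
    (bz : b * z = z * b) (ht : t ∈ Q z) (ta : t * a = a * t) :
    t * b * t⁻¹ * b⁻¹ = 1 ∨ t * b * t⁻¹ * b⁻¹ = z ↔ t * (x * b * x⁻¹ * b⁻¹) = x * b * x⁻¹ * b⁻¹ * t := by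
  rw [← L.ker (S.comm_mem ht bz), L.comm ht bz, (S.tau0 L h6 j hb bz hx c).2, sg_perp ((L.cm ht j.aQ).1 ta),
    add_comm, vv', L.cm ht (S.comm_mem hx bz), smul_eq_zero_iff_left (S.p_ne L j)]

include h6 hL E

theorem r1 (L : LM (Q z) z p q ρ) (j : Adj Q D z a) (hb : b ∈ Q a) (bz : b * z = z * b) (r : Rel q ρ (p a) b c)
    (ht : t ∈ Q z) (t1 : polar q (p t) (p a) = 0) (t2 : polar q (p t) c = 0) : t * b = b * t := by
  obtain ⟨x, hx, c1⟩ := S.exists_x j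
  obtain ⟨y, hy, c2⟩ := S.exists_x (S.symm j)
  obtain ⟨p', ρ', L'⟩ := hL a j.aD
  have ta := (L.cm ht j.aQ).2 t1
  have m := S.comm_mem hx bz
  have m' := S.comm_mem hy ta
  have h1 : t * (x * b * x⁻¹ * b⁻¹) = x * b * x⁻¹ * b⁻¹ * t := (L.cm ht m).2 (by
    rcases L.rel_uniq (S.p_ne L j) r (S.tau0 L h6 j hb bz hx c1) with e | e <;> rw [e]
    exacts [t2, by rw [polar_add_right, t1, t2, add_zero]])
  have h2 := (S.r_sym E (S.symm j) hy c2 m ((L.cm m j.aQ).2 (S.tau0 L h6 j hb bz hx c1).1) hb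
    (by rw [inv_mul_cancel_right, S.az j]; exact S.fam.mv c1 hb) ht ta).2 h1.symm
  have h3 := (S.r_sym E j hx c1 m' ((L'.cm m' (S.symm j).aQ).2 (S.tau0 L' h6 (S.symm j) ht ta hy c2).1) ht
    (by rw [inv_mul_cancel_right, ← S.az j]; exact S.fam.mv c2 ht) hb bz).1
    (by rw [inv_mul_cancel_right] at h2 ⊢; exact h2.symm)
  have h4 := (S.r_comm h6 L' (S.symm j) hy c2 ht ta hb bz).2 h3.symm
  rcases (S.r_comm h6 L j hx c1 hb bz ht ta).2 h1 with e | e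
  · exact conj_eq_iff.1 (mul_inv_eq_one.1 e)
  · rw [show b * t * b⁻¹ * t⁻¹ = (t * b * t⁻¹ * b⁻¹)⁻¹ by group, e, S.zi j.zD] at h4
    exact (h4.elim (S.ne1 j.zD) j.ne.symm).elim

theorem r_sq (L : LM (Q z) z p q ρ) (j : Adj Q D z a) (hb : b ∈ Q a) (bz : b * z = z * b) (r : Rel q ρ (p a) b c)
    (qc : q c = 0) : b * b = 1 := by
  obtain ⟨x, hx, c1⟩ := S.exists_x j
  have m := S.comm_mem hx bz
  have r' := S.tau0 L h6 j hb bz hx c1
  have h1 := S.r1 h6 hL E L j hb bz r' m r'.1 (pol_self _)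
  have h2 := (L.sq m).2 (by
    rcases L.rel_uniq (S.p_ne L j) r r' with e | e <;> rw [e]
    exacts [qc, by rw [quad_add, qc, r.1, S.p_sing L j]; rfl])
  refine ((S.lq j.aD).sq b hb).resolve_right fun e => S.ne1 j.zD ?_
  rwa [← e, conj_mul_conj, ← inv_mul_cancel_right (x * b * x⁻¹) b, mul_assoc _ b, ← mul_assoc b, ← h1, ← mul_assoc,
    ← mul_assoc, h2, one_mul, right_eq_mul] at c1

theorem r_gamma (L : LM (Q z) z p q ρ) (j : Adj Q D z a) (hb : b ∈ Q a) (bz : b * z = z * b) (r : Rel q ρ (p a) b c)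
    (qc : q c = 0) (c0 : c ≠ 0) (ca : c ≠ p a)
    (full : ∀ u w, u ≠ 0 → q u = 0 → polar q w u = 0 → ∃ g, g * z = z * g ∧ ∀ v, ρ g v = sg q u w v) :
    ∃ g, g * z = z * g ∧ g * b = b * g ∧ ρ g (p a) = p a + c ∧ ρ g c = p a ∧
      ∀ v, polar q v (p a) = 0 → polar q v c = 0 → ∃ i j : ZMod 2, ρ g v = v + i • p a + j • c := by
  have qa := S.p_sing L j
  obtain ⟨a', c', a1, a2, c1, c2⟩ := h6.duals (S.p_ne L j) c0 ca
  obtain ⟨g, gz, hg⟩ := full _ c' (S.p_ne L j) qa c1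
  obtain ⟨k, kz, hk⟩ := full _ a' c0 qc a2
  have hz := comm_mul gz kz
  have A : ∀ v, polar q v (p a) = 0 → polar q v c = 0 →
      ρ (g * k) v = v + (polar q v c' + polar q v a') • p a + polar q v a' • c := fun v h1 h2 => by
    rw [L.ρ_mul gz kz, hk, sg_perp h2, map_add, map_smul, hg, hg, sg_perp h1, sg_perp r.1, pc c2]; module
  generalize g * k = h at hz A
  have e1 : ρ h (p a) = c := by
    rw [A _ (pol_self _) (pc r.1), pc c1, pc a1, zero_add, one_smul, one_smul, vv, zero_add]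
  have e2 : ρ h c = c + p a := by rw [A _ r.1 (pol_self _), pc c2, pc a2, add_zero, one_smul, zero_smul, add_zero]
  have h1 := comm_mul (comm_mul hz bz) (comm_inv hz)
  have r1 := L.rel_cj hz bz r
  rw [e1, e2] at r1
  have y1 : h * b * h⁻¹ * b⁻¹ ∈ Q z := L.mem_of (comm_mul h1 (comm_inv bz)) fun v => by
    rw [L.ρ_mul h1 (comm_inv bz), r1.2, add_comm c, sg_add_self qc (pc r.1), (L.rel_inv qa bz r).2, sg_sing qa,
      add_right_comm, ← sg_sing qc, sg_invol qa r.1]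
  obtain ⟨i, l, e⟩ : ∃ i l : ZMod 2, p (h * b * h⁻¹ * b⁻¹) = i • p a + l • c := by
    by_contra! n
    obtain ⟨v, v1, v2, v3⟩ := h6.sep2 n
    obtain ⟨t, ht, rfl⟩ := L.surj v
    have t1 := L.cj (comm_inv hz) ht
    have := S.r1 h6 hL E L j hb bz r t1
      (by rw [← L.act (comm_inv hz) ht, ← L.ρ_pol hz, L.ρ_inv' hz, e1, v2])
      (by rw [← L.act (comm_inv hz) ht, ← L.ρ_pol hz, L.ρ_inv' hz, e2, polar_add_right, v1, v2, add_zero])
    rw [← comm_conj_iff h, show h * (h⁻¹ * t * h⁻¹⁻¹) * h⁻¹ = t by group] at this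
    exact z01 (((L.cm ht y1).1 (comm_mul this.symm (comm_inv (S.r1 h6 hL E L j hb bz r ht v1 v2).symm)).symm).symm.trans v3)
  obtain ⟨x, hx, e'⟩ := L.surj (l • a' + i • c')
  have xz := S.zc j.zD hx
  have B : x⁻¹ * h * b * (x⁻¹ * h)⁻¹ = b ∨ x⁻¹ * h * b * (x⁻¹ * h)⁻¹ = z * b := by
    have := (L.eq_iff y1 (S.comm_mem hx bz)).1 (by
      rw [e, L.comm hx bz, r.2, e', sg_sing qc, add_comm _ (l • a' + _), add_assoc (l • a' + _), vv']
      simp [polar_add_left, polar_smul_left, a1, a2, c1, c2, add_comm])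
    rw [show x⁻¹ * h * b * (x⁻¹ * h)⁻¹ = x⁻¹ * (h * b * h⁻¹ * b⁻¹ * b) * x by group]
    refine this.imp (fun e => by rw [e]; group) fun e => ?_
    rw [e, show x⁻¹ * (z * (x * b * x⁻¹ * b⁻¹) * b) * x = x⁻¹ * (z * x) * b by group, ← xz, inv_mul_cancel_left]
  have kz := comm_mul (comm_inv xz) hz
  have F : ∀ v, ρ (x⁻¹ * h * (x⁻¹ * h)) v = ρ h (ρ h v) := fun v => by
    rw [L.ρ_mul kz kz, L.ρ_mul (comm_inv xz) hz, L.ρ_mul (comm_inv xz) hz, L.ρ_Q (inv_mem hx), L.ρ_Q (inv_mem hx)]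
  generalize x⁻¹ * h = k at B kz F
  refine ⟨k * k, comm_mul kz kz, conj_eq_iff.1 ?_, by rw [F, e1, e2, add_comm],
    by rw [F, e2, map_add, e1, e2, add_comm, vv'], fun v v1 v2 => ?_⟩
  · rw [show k * k * b * (k * k)⁻¹ = k * (k * b * k⁻¹) * k⁻¹ by group]
    rcases B with B | B <;> rw [B]
    exacts [B, by rw [conj_mul_conj, B, conj_eq_iff.2 kz, ← mul_assoc, S.zz j.zD, one_mul]]
  · rw [F, A v v1 v2, map_add, map_add, map_smul, map_smul, e1, e2, A v v1 v2]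
    exact ⟨polar q v c' + polar q v a' + polar q v a', polar q v a' + (polar q v c' + polar q v a') + polar q v a',
      by module⟩

theorem no_plus (pl : IsPlus q) (L : LM (Q z) z p q ρ) (j : Adj Q D z a)
    (all : ∀ d ∈ D, ∀ x ∈ Q d, x * x = 1 → x ≠ 1 → x ∈ D)
    (full : ∀ u w, u ≠ 0 → q u = 0 → polar q w u = 0 → ∃ g, g * z = z * g ∧ ∀ v, ρ g v = sg q u w v)
    (c0 : c ≠ 0) (ca : c ≠ p a) (qc : q c = 0) (hb : b ∈ Q a) (bz : b * z = z * b) (r : Rel q ρ (p a) b c) : False := by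
  obtain ⟨x, -, x1, x2, -⟩ := h6.duals (S.p_ne L j) c0 ca
  have bx : ρ b x + x = c := by rw [r.2, sg_sing qc, x1, x2, one_smul, zero_smul, add_zero, add_comm, vv']
  have bQ : b ∉ Q z := fun l => c0 (by rw [← bx, L.ρ_Q l, vv])
  have j' : Adj Q D b a := S.symm ⟨j.aD, all a j.aD b hb (S.r_sq h6 hL E L j hb bz r qc) fun l => bQ (l ▸ one_mem _),
    hb, fun l => bQ (l ▸ j.aQ)⟩
  obtain ⟨p', ρ', L'⟩ := hL b j'.zD
  obtain ⟨g, gz, gb, g1, g2, g3⟩ := S.r_gamma h6 hL E L j hb bz r qc c0 ca full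
  have j1 := S.adj_cj' j gz
  have j2 := S.adj_cj' j' gb
  have e1 : p (g * a * g⁻¹) = p a + c := by rw [← L.act gz j.aQ, g1]
  have n1 : p' (g * a * g⁻¹) ≠ p' a := fun l => ((L'.eq_iff j2.aQ j'.aQ).1 l).elim
    (fun l => c0 (by simpa [l] using e1)) fun l => bQ ((mul_mem_cancel_right j.aQ).1 (l ▸ j1.aQ))
  have qa := S.p_sing L' j'
  have qa' := S.p_sing L' j2
  have r' : Rel q ρ' (p' a) z (p' (g * a * g⁻¹)) := by
    obtain ⟨y, hy, k⟩ := S.exists_x j'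
    have r1 := S.tau0 L' h6 j' (S.symm j).aQ bz.symm hy k
    obtain ⟨y', hy', k'⟩ := S.exists_x j2
    have r2 := S.tau0 L' h6 j2 (S.symm j1).aQ bz.symm hy' k'
    have zQ : z ∉ Q b := fun l => bQ (S.symm ⟨j'.zD, j.zD, l, fun m => bQ (m ▸ S.mem j.zD)⟩).aQ
    obtain ⟨v, v1, v2⟩ := h6.sep (fun l => zQ (L'.rel_triv qa' bz.symm r2 (.inl l)))
      fun l => zQ (L'.rel_triv qa' bz.symm r2 (.inr l))
    have := r1.2 v
    rw [r2.2, sg_perp v1, v2, one_smul, sg, add_assoc, add_right_inj] at this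
    generalize polar q v _ + _ = i at this
    rw [this]
    rcases z2 (polar q v (p' a)) with l | l <;> rcases z2 i with rfl | rfl <;> rw [l] at this ⊢
    exacts [(S.p_ne L' j2 (by simpa using this)).elim, (n1 (by simpa using this)).elim, by simpa using r1,
      by simpa using L'.rel_self qa r1]
  obtain ⟨w, w1, w2, w3, w4⟩ := h6.plus' pl (S.p_ne L' j') (S.p_ne L' j2) n1 qa qa' r'.1
  obtain ⟨y, hy, rfl⟩ := L'.surj w
  have yz := S.r1 h6 hL E L' j' (S.symm j).aQ bz.symm r' hy w2 w3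
  have y1 := L.fix_of yz j.aQ ((L'.cm hy j'.aQ).2 w2)
  have y2 : ρ y c = c := by simpa [e1, y1] using L.fix_of yz j1.aQ ((L'.cm hy j2.aQ).2 w3)
  have hy' := L'.cj gb hy
  have yz' := comm_mul (comm_mul gz yz) (comm_inv gz)
  obtain ⟨k1, k2⟩ : polar q (p' (g * y * g⁻¹)) (p' a) = 0 ∧ polar q (p' (g * y * g⁻¹)) (p' (g * a * g⁻¹)) = 0 := by
    have := L'.fix_of bz.symm hy' yz'.symm
    rw [r'.2, sg_sing qa', add_assoc, add_eq_left, add_eq_zero'] at this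
    revert this
    rcases z2 (polar q (p' (g * y * g⁻¹)) (p' a)) with l | l <;>
      rcases z2 (polar q (p' (g * y * g⁻¹)) (p' (g * a * g⁻¹))) with m | m <;>
      simp [l, m, n1, S.p_ne L' j2, (S.p_ne L' j').symm]
  obtain ⟨i, l, e⟩ := w4 _ (by rw [← L'.act gb hy, L'.ρ_q gb, w1]) k1 k2
  obtain ⟨s, s1, s2, s3⟩ : ∃ s ∈ Q z, s ∈ Q b ∧ p' s = i • p' a + l • p' (g * a * g⁻¹) := by
    rcases z2 i with rfl | rfl <;> rcases z2 l with rfl | rfl
    exacts [⟨1, one_mem _, one_mem _, by simp [L'.one]⟩, ⟨_, j1.aQ, j2.aQ, by simp⟩, ⟨_, j.aQ, j'.aQ, by simp⟩,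
      ⟨_, mul_mem j.aQ j1.aQ, mul_mem j'.aQ j2.aQ, by simp [L'.mul j'.aQ j2.aQ]⟩]
  have sz := S.zc j.zD s1
  have A : ∀ v, polar q v (p a) = 0 → polar q v c = 0 → ρ (g * y * g⁻¹) v = ρ y v := fun v v1 v2 => by
    rcases (L'.eq_iff hy' (mul_mem s2 hy)).1 (by rw [L'.mul s2 hy, s3, ← e, vv'']) with m | m <;> rw [m]
    · rw [L.ρ_mul sz yz, L.ρ_Q s1]
    · rw [L.ρ_mul bz (comm_mul sz yz), L.ρ_mul sz yz, L.ρ_Q s1, r.2,
        sg_fix (by rw [← y1, L.ρ_pol yz, v1]) (by rw [← y2, L.ρ_pol yz, v2])]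
  have d1 : polar q (ρ y x + x) (p a) = 0 := by rw [polar_add_left, ← y1, L.ρ_pol yz, y1, CharTwo.add_self_eq_zero]
  have d2 : polar q (ρ y x + x) c = 0 := by rw [polar_add_left, ← y2, L.ρ_pol yz, y2, CharTwo.add_self_eq_zero]
  have d3 : ρ y (ρ y x + x) + (ρ y x + x) = c := by
    rw [map_add, ← L.ρ_mul yz yz, L'.sqz hy w1, add_assoc, vv', bx]
  generalize ρ y x + x = δ at d1 d2 d3
  obtain ⟨i, l, e⟩ := g3 δ d1 d2
  refine ca (g2.symm.trans ?_).symm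
  conv_lhs => rw [← d3, map_add, ← L.ρ_cj gz yz, e, A _ (by simp [polar_add_left, polar_smul_left, d1, r.1, pol_self,
    -polar_self]) (by simp [polar_add_left, polar_smul_left, d2, pc r.1, pol_self, -polar_self]), map_add, map_add,
    map_smul, map_smul, y1, y2]
  generalize i • p a = u, l • c = v
  rw [← d3]
  apply v2; match_scalars <;> decide

end Sys

end CF.XG
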